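import Groth.Agent.Lib.Twist.Universal
import Groth.Agent.Lib.ProjSpace.Basic
import Mathlib.AlgebraicGeometry.ZariskisMainTheorem

/-!
The Segre embedding.
-/

set_option autoImplicit false

universe u

open CategoryTheory CategoryTheory.Limits AlgebraicGeometry TopologicalSpace

namespace Groth.Agent.Segre

open Groth.Agent.ProjUP

variable (R : Type u) [CommRing R] (n m N : ℕ) (σ : Fin (N + 1) ≃ Fin (n + 1) × Fin (m + 1))

variable {T : Scheme.{u}}

lemma xMem (d : ℕ) (i : Fin (d + 1)) : (MvPolynomial.X i : MvPolynomial (Fin (d + 1)) R) ∈ CohB1.polyGrading d R 1 :=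
  ProjSpace.X_mem' d R i

/-- The coordinate `T_l / T_k` of a morphism. -/
noncomputable abbrev co {d : ℕ} (r : T ⟶ Proj (CohB1.polyGrading d R)) (k : Fin (d + 1)) (U : T.Opens)
    (h : U ≤ r ⁻¹ᵁ Proj.basicOpen (CohB1.polyGrading d R) (MvPolynomial.X k)) (l : Fin (d + 1)) : Γ(T, U) :=
  ev (CohB1.polyGrading d R) (xMem R d k) r U h (MvPolynomial.X l)

lemma co_mul_co {d : ℕ} (r : T ⟶ Proj (CohB1.polyGrading d R)) (k k' l : Fin (d + 1)) (U : T.Opens)
    (h : U ≤ r ⁻¹ᵁ Proj.basicOpen (CohB1.polyGrading d R) (MvPolynomial.X k))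
    (h' : U ≤ r ⁻¹ᵁ Proj.basicOpen (CohB1.polyGrading d R) (MvPolynomial.X k')) :
    co R r k' U h' l * co R r k U h k' = co R r k U h l :=
  ev_mul_ev (CohB1.polyGrading d R) r (xMem R d k) (xMem R d k') (xMem R d l) U h h'

lemma isUnit_co {d : ℕ} (r : T ⟶ Proj (CohB1.polyGrading d R)) (k k' : Fin (d + 1)) (U : T.Opens)
    (h : U ≤ r ⁻¹ᵁ Proj.basicOpen (CohB1.polyGrading d R) (MvPolynomial.X k))
    (h' : U ≤ r ⁻¹ᵁ Proj.basicOpen (CohB1.polyGrading d R) (MvPolynomial.X k')) :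
    IsUnit (co R r k U h k') := by
  refine IsUnit.of_mul_eq_one_right (co R r k' U h' k) ?_
  rw [co_mul_co R r k k' k U h h']
  exact ev_self _ _ r U h

lemma le_of_isUnit_co {d : ℕ} (r : T ⟶ Proj (CohB1.polyGrading d R)) (k k' : Fin (d + 1)) (U : T.Opens)
    (h : U ≤ r ⁻¹ᵁ Proj.basicOpen (CohB1.polyGrading d R) (MvPolynomial.X k))
    (hu : IsUnit (co R r k U h k')) :
    U ≤ r ⁻¹ᵁ Proj.basicOpen (CohB1.polyGrading d R) (MvPolynomial.X k') := by
  have hb := basicOpen_ev (CohB1.polyGrading d R) (xMem R d k) r U h (xMem R d k')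
  rw [Scheme.basicOpen_of_isUnit _ hu] at hb
  exact hb.le.trans inf_le_right

lemma ext_of_co {d : ℕ} {r r' : T ⟶ Proj (CohB1.polyGrading d R)}
    (hbase : r ≫ toBase (CohB1.polyGrading d R) = r' ≫ toBase (CohB1.polyGrading d R))
    (h : ∀ x : T, ∃ (k : Fin (d + 1)) (U : T.Opens)
      (hU : U ≤ r ⁻¹ᵁ Proj.basicOpen (CohB1.polyGrading d R) (MvPolynomial.X k))
      (hU' : U ≤ r' ⁻¹ᵁ Proj.basicOpen (CohB1.polyGrading d R) (MvPolynomial.X k)), x ∈ U ∧
        ∀ l, co R r k U hU l = co R r' k U hU' l) : r = r' :=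
  ext_of_ev (CohB1.polyGrading d R) (fun i : ULift.{u} (Fin (d + 1)) => MvPolynomial.X i.down)
    (fun i => xMem R d i.down)
    (by
      rw [show Set.range (fun i : ULift.{u} (Fin (d + 1)) => (MvPolynomial.X i.down : MvPolynomial _ R)) =
        Set.range MvPolynomial.X from Set.ext fun p =>
          ⟨fun ⟨i, hi⟩ => ⟨i.down, hi⟩, fun ⟨i, hi⟩ => ⟨⟨i⟩, hi⟩⟩]
      exact MvPolynomial.adjoin_range_X)
    hbase fun x => by
      obtain ⟨k, U, hU, hU', hx, he⟩ := h x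
      exact ⟨⟨k⟩, U, hU, hU', hx, fun l => he l.down⟩

/-- Where both chosen coordinates are invertible. -/
noncomputable abbrev dom (a : T ⟶ Proj (CohB1.polyGrading n R)) (b : T ⟶ Proj (CohB1.polyGrading m R)) (k : Fin (N + 1)) : T.Opens :=
  a ⁻¹ᵁ Proj.basicOpen (CohB1.polyGrading n R) (MvPolynomial.X (σ k).1) ⊓
    b ⁻¹ᵁ Proj.basicOpen (CohB1.polyGrading m R) (MvPolynomial.X (σ k).2)

/-- `r` is the Segre composite of `a` and `b` on `U`, read in the chart `k`. -/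
def IsSeg (r : T ⟶ Proj (CohB1.polyGrading N R)) (a : T ⟶ Proj (CohB1.polyGrading n R))
    (b : T ⟶ Proj (CohB1.polyGrading m R)) (k : Fin (N + 1)) (U : T.Opens) : Prop :=
  ∃ (h : U ≤ r ⁻¹ᵁ Proj.basicOpen (CohB1.polyGrading N R) (MvPolynomial.X k))
    (h1 : U ≤ a ⁻¹ᵁ Proj.basicOpen (CohB1.polyGrading n R) (MvPolynomial.X (σ k).1))
    (h2 : U ≤ b ⁻¹ᵁ Proj.basicOpen (CohB1.polyGrading m R) (MvPolynomial.X (σ k).2)),
    ∀ l, co R r k U h l = co R a (σ k).1 U h1 (σ l).1 * co R b (σ k).2 U h2 (σ l).2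

variable {R n m N σ}
variable {r : T ⟶ Proj (CohB1.polyGrading N R)} {a : T ⟶ Proj (CohB1.polyGrading n R)}
  {b : T ⟶ Proj (CohB1.polyGrading m R)} {k : Fin (N + 1)} {U : T.Opens}

lemma IsSeg.comp {S : Scheme.{u}} (hs : IsSeg R n m N σ r a b k U) (g : S ⟶ T) {V : S.Opens} (hV : V ≤ g ⁻¹ᵁ U) :
    IsSeg R n m N σ (g ≫ r) (g ≫ a) (g ≫ b) k V := by
  obtain ⟨h, h1, h2, he⟩ := hs
  refine ⟨hV.trans (g.preimage_mono h), hV.trans (g.preimage_mono h1), hV.trans (g.preimage_mono h2), fun l => ?_⟩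
  have := congrArg (g.appLE U V hV) (he l)
  rw [map_mul, ev_comp, ev_comp, ev_comp] at this
  exact this

lemma IsSeg.mono (hs : IsSeg R n m N σ r a b k U) {V : T.Opens} (hV : V ≤ U) :
    IsSeg R n m N σ r a b k V := by
  have := hs.comp (𝟙 T) (V := V) hV
  rwa [Category.id_comp, Category.id_comp, Category.id_comp] at this

lemma IsSeg.inf_le (hs : IsSeg R n m N σ r a b k U) (k' : Fin (N + 1)) :
    U ⊓ r ⁻¹ᵁ Proj.basicOpen (CohB1.polyGrading N R) (MvPolynomial.X k') ≤ dom R n m N σ a b k' := by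
  obtain ⟨h, h1, h2, he⟩ := hs.mono (inf_le_left :
    U ⊓ r ⁻¹ᵁ Proj.basicOpen (CohB1.polyGrading N R) (MvPolynomial.X k') ≤ U)
  have hu := isUnit_co R r k k' _ h inf_le_right
  rw [he k', IsUnit.mul_iff] at hu
  exact le_inf (le_of_isUnit_co R a _ _ _ h1 hu.1) (le_of_isUnit_co R b _ _ _ h2 hu.2)

lemma IsSeg.transfer (hs : IsSeg R n m N σ r a b k U) {k' : Fin (N + 1)} (hU : U ≤ dom R n m N σ a b k') :
    IsSeg R n m N σ r a b k' U := by
  obtain ⟨h, h1, h2, he⟩ := hs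
  have h1' : U ≤ a ⁻¹ᵁ _ := hU.trans inf_le_left
  have h2' : U ≤ b ⁻¹ᵁ _ := hU.trans inf_le_right
  have hu : IsUnit (co R r k U h k') := by
    rw [he k']
    exact (isUnit_co R a _ _ _ h1 h1').mul (isUnit_co R b _ _ _ h2 h2')
  have h' := le_of_isUnit_co R r k k' U h hu
  refine ⟨h', h1', h2', fun l => ?_⟩
  apply hu.mul_right_cancel
  rw [co_mul_co R r k k' l U h h', he k', he l, mul_mul_mul_comm,
    co_mul_co R a _ _ _ U h1 h1', co_mul_co R b _ _ _ U h2 h2']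

lemma eq_of_isSeg {r' : T ⟶ Proj (CohB1.polyGrading N R)}
    (hbase : r ≫ toBase (CohB1.polyGrading N R) = r' ≫ toBase (CohB1.polyGrading N R))
    (h : ∀ x : T, ∃ (k : Fin (N + 1)) (U : T.Opens), x ∈ U ∧
      IsSeg R n m N σ r a b k U ∧ IsSeg R n m N σ r' a b k U) : r = r' := by
  refine ext_of_co R hbase fun x => ?_
  obtain ⟨k, U, hx, ⟨hr, h1, h2, he⟩, ⟨hr', h1', h2', he'⟩⟩ := h x
  exact ⟨k, U, hr, hr', hx, fun l => (he l).trans (he' l).symm⟩

variable (σ)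

/-- The Segre composite in a chart. -/
theorem exists_isSeg_chart (a : T ⟶ Proj (CohB1.polyGrading n R)) (b : T ⟶ Proj (CohB1.polyGrading m R))
    (k : Fin (N + 1)) (h : (⊤ : T.Opens) ≤ dom R n m N σ a b k) :
    ∃ r : T ⟶ Proj (CohB1.polyGrading N R),
      r ≫ toBase (CohB1.polyGrading N R) = a ≫ toBase (CohB1.polyGrading n R) ∧
      IsSeg R n m N σ r a b k ⊤ := by
  let c : R →+* Γ(T, ⊤) :=
    (a ≫ toBase (CohB1.polyGrading n R)).appTop.hom.comp (Scheme.ΓSpecIso (CommRingCat.of R)).inv.hom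
  have h1 : (⊤ : T.Opens) ≤ a ⁻¹ᵁ _ := h.trans inf_le_left
  have h2 : (⊤ : T.Opens) ≤ b ⁻¹ᵁ _ := h.trans inf_le_right
  let ψ : MvPolynomial (Fin (N + 1)) R →+* Γ(T, ⊤) :=
    MvPolynomial.eval₂Hom c fun l => co R a (σ k).1 ⊤ h1 (σ l).1 * co R b (σ k).2 ⊤ h2 (σ l).2
  have hψ : ψ (MvPolynomial.X k) = 1 := by
    simp only [ψ, MvPolynomial.eval₂Hom_X', co, ev_self, mul_one]
  let r := chartHom (CohB1.polyGrading N R) (xMem R N k) ψ hψ
  have hr : (⊤ : T.Opens) ≤ r ⁻¹ᵁ _ := top_le_preimage_chartHom _ (xMem R N k) ψ hψ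
  refine ⟨r, ?_, hr, h1, h2, fun l => ?_⟩
  · refine ext_of_isAffine ?_
    rw [← cancel_epi (Scheme.ΓSpecIso (CommRingCat.of R)).inv]
    refine CommRingCat.hom_ext (RingHom.ext fun x => ?_)
    have e := ev_algebraMap (CohB1.polyGrading N R) (xMem R N k) r ⊤ hr x
    rw [ev_chartHom, M1.ores_id] at e
    exact e.symm.trans (by simp only [ψ, MvPolynomial.algebraMap_eq, MvPolynomial.eval₂Hom_C]; rfl)
  · rw [show co R r k ⊤ hr l = ψ (MvPolynomial.X l) from ev_chartHom _ (xMem R N k) ψ hψ _]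
    exact MvPolynomial.eval₂Hom_X' _ _ _

lemma exists_mem_dom (a : T ⟶ Proj (CohB1.polyGrading n R)) (b : T ⟶ Proj (CohB1.polyGrading m R)) (x : T) :
    ∃ k, x ∈ dom R n m N σ a b k := by
  have ha : a x ∈ (⨆ i, Proj.basicOpen (CohB1.polyGrading n R) (MvPolynomial.X i)) := by
    rw [ProjSpace.iSup_basicOpen]; trivial
  have hb : b x ∈ (⨆ i, Proj.basicOpen (CohB1.polyGrading m R) (MvPolynomial.X i)) := by
    rw [ProjSpace.iSup_basicOpen]; trivial
  obtain ⟨i, hi⟩ := Opens.mem_iSup.1 ha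
  obtain ⟨j, hj⟩ := Opens.mem_iSup.1 hb
  refine ⟨σ.symm (i, j), ?_⟩
  simp only [dom, Equiv.apply_symm_apply]
  exact ⟨hi, hj⟩

/-- The Segre morphism. -/
theorem exists_isSeg (a : T ⟶ Proj (CohB1.polyGrading n R)) (b : T ⟶ Proj (CohB1.polyGrading m R)) :
    ∃ r : T ⟶ Proj (CohB1.polyGrading N R),
      r ≫ toBase (CohB1.polyGrading N R) = a ≫ toBase (CohB1.polyGrading n R) ∧
      ∀ k, IsSeg R n m N σ r a b k (dom R n m N σ a b k) := by
  let O : Fin (N + 1) → T.Opens := dom R n m N σ a b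
  have hO : ∀ k, (⊤ : (O k : Scheme.{u}).Opens) ≤ dom R n m N σ ((O k).ι ≫ a) ((O k).ι ≫ b) k :=
    fun k x _ => x.2
  choose μ hμb hμ using fun k => exists_isSeg_chart σ ((O k).ι ≫ a) ((O k).ι ≫ b) k (hO k)
  have key : ∀ p q, T.homOfLE (inf_le_left : O p ⊓ O q ≤ O p) ≫ μ p =
      T.homOfLE (inf_le_right : O p ⊓ O q ≤ O q) ≫ μ q := by
    intro p q
    refine eq_of_isSeg (σ := σ) (a := (O p ⊓ O q).ι ≫ a) (b := (O p ⊓ O q).ι ≫ b) ?_ fun x =>
      ⟨q, ⊤, trivial, ?_, ?_⟩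
    · simp only [Category.assoc, hμb, Scheme.homOfLE_ι_assoc]
    · have := ((hμ p).comp (T.homOfLE (inf_le_left : O p ⊓ O q ≤ O p)) (V := ⊤) le_top)
      rw [← Category.assoc, ← Category.assoc, Scheme.homOfLE_ι] at this
      exact this.transfer fun y _ => ⟨y.2.2.1, y.2.2.2⟩
    · have := ((hμ q).comp (T.homOfLE (inf_le_right : O p ⊓ O q ≤ O q)) (V := ⊤) le_top)
      rwa [← Category.assoc, ← Category.assoc, Scheme.homOfLE_ι] at this
  let C := T.openCoverOfIsOpenCover O (IsOpenCover.mk (top_le_iff.1 fun x _ =>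
    Opens.mem_iSup.2 (exists_mem_dom σ a b x)))
  let r : T ⟶ Proj (CohB1.polyGrading N R) := C.glueMorphisms μ fun p q => by
    refine (cancel_epi (isPullback_opens_inf (O p) (O q)).isoPullback.hom).mp ?_
    change _ ≫ pullback.fst (O p).ι (O q).ι ≫ _ = _ ≫ pullback.snd (O p).ι (O q).ι ≫ _
    rw [IsPullback.isoPullback_hom_fst_assoc, IsPullback.isoPullback_hom_snd_assoc]
    exact key p q
  have hr : ∀ k, (O k).ι ≫ r = μ k := fun k => Scheme.Cover.ι_glueMorphisms C μ _ k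
  refine ⟨r, Scheme.Cover.hom_ext C _ _ fun k => ?_, fun k => ?_⟩
  · show (O k).ι ≫ _ = (O k).ι ≫ _
    rw [← Category.assoc, hr, hμb, Category.assoc]
  · obtain ⟨h0, g1, g2, he⟩ := hμ k
    have hle : O k ≤ r ⁻¹ᵁ Proj.basicOpen (CohB1.polyGrading N R) (MvPolynomial.X k) := fun y hy => by
      have := h0 (x := ⟨y, hy⟩) trivial
      rwa [← hr k] at this
    refine ⟨hle, inf_le_left, inf_le_right, fun l => ?_⟩
    have htop : (⊤ : (O k : Scheme.{u}).Opens) ≤ (O k).ι ⁻¹ᵁ O k := fun y _ => y.2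
    have hiso : (O k).ι.appLE (O k) ⊤ htop = (O k).topIso.inv := by
      simp only [Scheme.Opens.topIso, Scheme.Opens.ι_appLE]
      rfl
    apply ((ConcreteCategory.isIso_iff_bijective (O k).topIso.inv).1 inferInstance).1
    rw [← hiso, map_mul, ev_comp, ev_comp, ev_comp]
    refine Eq.trans ?_ (he l)
    congr 1
    congr 1
    exact hr k

/-- The Segre morphism is a monomorphism. -/
theorem eq_of_segre_eq {S : Scheme.{u}} (r : T ⟶ Proj (CohB1.polyGrading N R))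
    (hr : ∀ k, IsSeg R n m N σ r a b k (dom R n m N σ a b k)) (f g : S ⟶ T) (hfg : f ≫ r = g ≫ r)
    (hbase : f ≫ a ≫ toBase (CohB1.polyGrading n R) = g ≫ a ≫ toBase (CohB1.polyGrading n R))
    (hbase' : f ≫ b ≫ toBase (CohB1.polyGrading m R) = g ≫ b ≫ toBase (CohB1.polyGrading m R)) :
    f ≫ a = g ≫ a ∧ f ≫ b = g ≫ b := by
  have main : ∀ x : S, ∃ (k : Fin (N + 1)) (V : S.Opens), x ∈ V ∧
      IsSeg R n m N σ (f ≫ r) (f ≫ a) (f ≫ b) k V ∧ IsSeg R n m N σ (f ≫ r) (g ≫ a) (g ≫ b) k V := by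
    intro x
    obtain ⟨k, hk⟩ := exists_mem_dom σ a b (f x)
    obtain ⟨k', hk'⟩ := exists_mem_dom σ a b (g x)
    have hgk : g x ∈ dom R n m N σ a b k := by
      refine ((hr k').inf_le k) ⟨hk', ?_⟩
      show r (g x) ∈ Proj.basicOpen _ _
      rw [← Scheme.Hom.comp_apply, ← hfg, Scheme.Hom.comp_apply]
      exact (hr k).1 hk
    refine ⟨k, f ⁻¹ᵁ dom R n m N σ a b k ⊓ g ⁻¹ᵁ dom R n m N σ a b k, ⟨hk, hgk⟩,
      (hr k).comp f inf_le_left, ?_⟩
    rw [hfg]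
    exact (hr k).comp g inf_le_right
  constructor
  · refine ext_of_co R (by simpa using hbase) fun x => ?_
    obtain ⟨k, V, hx, ⟨h0, h1, h2, he⟩, ⟨h0', h1', h2', he'⟩⟩ := main x
    refine ⟨(σ k).1, V, h1, h1', hx, fun i => ?_⟩
    have := (he (σ.symm (i, (σ k).2))).symm.trans (he' (σ.symm (i, (σ k).2)))
    simpa [co, ev_self] using this
  · refine ext_of_co R (by simpa using hbase') fun x => ?_
    obtain ⟨k, V, hx, ⟨h0, h1, h2, he⟩, ⟨h0', h1', h2', he'⟩⟩ := main x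
    refine ⟨(σ k).2, V, h2, h2', hx, fun i => ?_⟩
    have := (he (σ.symm ((σ k).1, i))).symm.trans (he' (σ.symm ((σ k).1, i)))
    simpa [co, ev_self] using this

/-- The Segre embedding over an affine base. -/
theorem exists_segre (R : Type u) [CommRing R] {n m N : ℕ} (σ : Fin (N + 1) ≃ Fin (n + 1) × Fin (m + 1)) :
    ∃ φ : pullback (CohB1.ProjSpace.toSpec n R) (CohB1.ProjSpace.toSpec m R) ⟶ CohB1.ProjSpace N R,
      IsClosedImmersion φ ∧ φ ≫ CohB1.ProjSpace.toSpec N R =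
        pullback.fst _ _ ≫ CohB1.ProjSpace.toSpec n R := by
  obtain ⟨r, hb, hr⟩ := exists_isSeg σ
    (pullback.fst (CohB1.ProjSpace.toSpec n R) (CohB1.ProjSpace.toSpec m R))
    (pullback.snd (CohB1.ProjSpace.toSpec n R) (CohB1.ProjSpace.toSpec m R))
  let r' : pullback (CohB1.ProjSpace.toSpec n R) (CohB1.ProjSpace.toSpec m R) ⟶ CohB1.ProjSpace N R := r
  have hb' : r' ≫ CohB1.ProjSpace.toSpec N R = pullback.fst _ _ ≫ CohB1.ProjSpace.toSpec n R := hb
  refine ⟨r', ?_, hb'⟩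
  have : IsProper (r' ≫ CohB1.ProjSpace.toSpec N R) := by rw [hb']; infer_instance
  have : IsProper r' := IsProper.of_comp r' (CohB1.ProjSpace.toSpec N R)
  have : Mono r' := ⟨fun {S} f g hfg => by
    have hc : f ≫ pullback.fst (CohB1.ProjSpace.toSpec n R) (CohB1.ProjSpace.toSpec m R) ≫ CohB1.ProjSpace.toSpec n R =
        g ≫ pullback.fst (CohB1.ProjSpace.toSpec n R) (CohB1.ProjSpace.toSpec m R) ≫ CohB1.ProjSpace.toSpec n R := by
      rw [← hb', reassoc_of% hfg]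
    have hc' : f ≫ pullback.snd (CohB1.ProjSpace.toSpec n R) (CohB1.ProjSpace.toSpec m R) ≫ CohB1.ProjSpace.toSpec m R =
        g ≫ pullback.snd (CohB1.ProjSpace.toSpec n R) (CohB1.ProjSpace.toSpec m R) ≫ CohB1.ProjSpace.toSpec m R := by
      rwa [← pullback.condition]
    obtain ⟨h1, h2⟩ := eq_of_segre_eq σ r hr f g hfg hc hc'
    exact pullback.hom_ext h1 h2⟩
  exact (IsClosedImmersion.iff_isProper_and_mono r').mpr ⟨inferInstance, inferInstance⟩

end Groth.Agent.Segre
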